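import Cfsg.Agent.LV.Rk.Bound
import Cfsg.Agent.LV.Sm.Row
import Cfsg.Agent.KZ.ClB.Sp
import Cfsg.Agent.KZ.Dat.OmS

/-!
# LV, classical groups: the frames (helper22)

* `Cv Γ S` : `S` is a quotient of a normal subgroup of `Γ`, both steps of exponent `2`; `Cv.hz`, `Cv.abS`;
* `cvC`, `cvB`, `cvP`, `cvM`; `spC`, `spB` (`KZ.ClD.spD`), `mxC`, `mxB`, `mxP`, `mxM`;
* `BoxC`, `BoxB`, `BoxP`, `BoxM` and `psp_of`, `odd_of`, `plus_of`, `minus_of`;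
* `psp3`, `odd3`, `plus3`, `minus3` : the rows for `l = 3`;
* `Bd5 q m ev η` : the rank bounds for `l = 5`, `bd5`.
-/

set_option autoImplicit false
set_option linter.unusedSectionVars false

namespace Cfsg.Agent.LV.Rk

open Cfsg Cfsg.Agent.DL Cfsg.Agent.DL.PP Cfsg.Agent.KZ Cfsg.Agent.KZ.Lie Cfsg.Agent.KZ.Dat Cfsg.Agent.KZ.ClB
  Cfsg.Agent.KZ.ClD Cfsg.Agent.KZ.Dat.Om Cfsg.Agent.KZ.Ch3X Cfsg.Agent.LV.Blk Matrix Equiv
  Cfsg.Agent.LieClassical.OrthForms Cfsg.Agent.LieClassical.OrthCore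

/-! ### sections -/

/-- `S` is a quotient of a normal subgroup of `Γ` -/
def Cv (Γ S : Type) [Group Γ] [Group S] : Prop :=
  ∃ (H : Subgroup Γ) (π : H →* S), H.Normal ∧ (∀ g, g ^ 2 ∈ H) ∧ Function.Surjective π ∧ ∀ z, π z = 1 → z ^ 2 = 1

section Cv

variable {Γ S S' St : Type} [Group Γ] [Group S] [Group S'] [Group St] {l : ℕ}

theorem Cv.congr (h : Cv Γ S) (e : S' ≃* S) : Cv Γ S' := by
  obtain ⟨H, π, h1, h2, h3, h4⟩ := h
  exact ⟨H, e.symm.toMonoidHom.comp π, h1, h2, e.symm.surjective.comp h3, fun z hz => h4 z (e.symm.map_eq_one_iff.1 hz)⟩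

theorem cv_of (ι : St →* Γ) (inj : Function.Injective ι) (h1 : ι.range.Normal) (h2 : ∀ g, g ^ 2 ∈ ι.range)
    (h3 : ∀ z ∈ Subgroup.center St, z ^ 2 = 1) : Cv Γ (St ⧸ Subgroup.center St) :=
  ⟨ι.range, (QuotientGroup.mk' _).comp (MonoidHom.ofInjective inj).symm.toMonoidHom, h1, h2,
    (QuotientGroup.mk'_surjective _).comp (MonoidHom.ofInjective inj).symm.surjective, fun z hz =>
      (MonoidHom.ofInjective inj).symm.injective (by
        rw [map_pow, map_one]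
        exact h3 _ ((QuotientGroup.eq_one_iff _).1 hz))⟩

variable [Finite Γ]

theorem Cv.hz (h : Cv Γ S) {M : Ideal AlgInt} (hM : IsPModular l M) (hz : HZ0 l M Γ) : HZ0 l M S := by
  obtain ⟨H, π, h1, -, h3, -⟩ := h
  have : Fact l.Prime := ⟨hM.1⟩
  exact ((hz.normal hM H).quot hM π.ker).of_equiv (QuotientGroup.quotientKerEquivOfSurjective π h3)

theorem Cv.abS (h : Cv Γ S) (hl : l.Prime) (h2 : l ≠ 2) (hA : AbS l S) : AbS l Γ := by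
  obtain ⟨H, π, -, h3, -, h4⟩ := h
  have : Fact l.Prime := ⟨hl⟩
  have h5 : ∀ j, (2 : ℕ).Coprime (l ^ j) := fun j => ((Nat.coprime_primes Nat.prime_two hl).2 h2.symm).pow_right j
  refine abS_iff.2 fun P a ha b hb => ?_
  have h6 : ∀ x ∈ (P : Subgroup Γ), ∃ j, orderOf x = l ^ j := fun x hx => by
    obtain ⟨j, hj⟩ := IsPGroup.iff_orderOf.1 P.isPGroup' ⟨x, hx⟩
    exact ⟨j, by rw [← hj, Subgroup.orderOf_mk]⟩
  have h7 : ∀ x ∈ (P : Subgroup Γ), x ∈ H := fun x hx => by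
    obtain ⟨j, hj⟩ := h6 x hx
    obtain ⟨u, hu⟩ := exists_pow_eq_self_of_coprime (x := x) (n := 2) (hj ▸ h5 j)
    exact hu ▸ pow_mem (h3 x) u
  obtain ⟨Q, hQ⟩ := ((P.isPGroup'.comap_subtype (K := H)).map π).exists_le_sylow
  have h8 := abS_iff.1 hA Q _ (hQ ⟨⟨a, h7 a ha⟩, ha, rfl⟩) _ (hQ ⟨⟨b, h7 b hb⟩, hb, rfl⟩)
  have h9 := congrArg Subtype.val (h4 (⟨a, h7 a ha⟩ * ⟨b, h7 b hb⟩ * (⟨b, h7 b hb⟩ * ⟨a, h7 a ha⟩)⁻¹) (by
    rw [map_mul, map_inv, map_mul, map_mul, h8, mul_inv_cancel]))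
  obtain ⟨j, hj⟩ := h6 (a * b * (b * a)⁻¹) (mul_mem (mul_mem ha hb) (inv_mem (mul_mem hb ha)))
  exact mul_inv_eq_one.1 ((pow_eq_one_iff_of_coprime (h5 j)).1 ⟨h9, hj ▸ pow_orderOf_eq_one _⟩)

end Cv

/-! ### the four families -/

section Dat

variable {p : ℕ} [Fact p.Prime] {k : Type} [Field k] [CharP k p] [IsAlgClosed k]
  (hk : ∀ a : k, ∃ j, 0 < j ∧ a ^ p ^ j = a) {e : ℕ} (he : 0 < e)

/-- the Weyl group of type `C` -/
noncomputable def spC (m : ℕ) : SP (datC m hk he) m False :=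
  SP.ofEq (Equiv.refl _) (fun w => (WmC_spm hk he w).imp fun _ h => h.imp fun _ h i j => congrFun (congrFun h i) j)
    fun π s => (exists_WmC hk he π s).imp fun _ h i j => congrFun (congrFun h i) j

/-- the Weyl group of type `B` -/
noncomputable def spB (m : ℕ) (h2 : (2 : k) ≠ 0) : SP (datB m h2 hk he) m False :=
  SP.ofEq (Equiv.refl _) (fun w => (WmB_spm h2 hk he w).imp fun _ h => h.imp fun _ h i j => congrFun (congrFun h i) j)
    fun π s => (exists_WmB h2 hk he π s).imp fun _ h i j => congrFun (congrFun h i) j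

theorem one_mx (n : ℕ) (q : ℤ) : (1 : Matrix (Fin (n + 1)) (Fin (n + 1)) ℤ) * (q • 1) = q • spm 1 (lsg n 1) * 1 :=
  one_comm' (by rw [lsg_one, spm_one])
where one_comm' {A A' : Matrix (Fin (n + 1)) (Fin (n + 1)) ℤ} (h : A = A') : 1 * A = A' * 1 := by rw [h, one_mul, mul_one]

theorem mxC (n : ℕ) : (spC hk he (n + 1)).P * (datC (n + 1) hk he).Mx =
    (p : ℤ) ^ e • spm 1 (lsg n 1) * (spC hk he (n + 1)).P := one_mx n _

theorem mxB (n : ℕ) (h2 : (2 : k) ≠ 0) : (spB hk he (n + 1) h2).P * (datB (n + 1) h2 hk he).Mx =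
    (p : ℤ) ^ e • spm 1 (lsg n 1) * (spB hk he (n + 1) h2).P := one_mx n _

theorem mxP (n : ℕ) : (spD hk he (osD n).sy_id).P * (datP n hk he).Mx =
    (p : ℤ) ^ e • spm 1 (lsg (n + 1) 1) * (spD hk he (osD n).sy_id).P := one_mx (n + 1) _

theorem mxM (n : ℕ) : (spD hk he (syD n)).P * (datM n hk he).Mx =
    (p : ℤ) ^ e • spm 1 (lsg (n + 1) (-1)) * (spD hk he (syD n)).P := one_comm (smul_BD _)

variable {F : Type} [Field F] [Fintype F] (f : F →+* k) (hF : Fintype.card F = p ^ e)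

include f hF

theorem cvC (m : ℕ) : Cv ↥(GF (FC m k p e) (GC m k)) (PSp m F) := by
  have h : (eqvC (n := m) f hF).toMonoidHom.range = ⊤ := MonoidHom.range_eq_top.2 (eqvC f hF).surjective
  refine cv_of (eqvC f hF).toMonoidHom (eqvC f hF).injective (h ▸ inferInstance) (fun _ => h.ge trivial) fun s hs => ?_
  obtain ⟨a, ha⟩ := (LieClassical.SympCenter.mem_center_iff m s).1 hs
  rcases m with _ | m
  · exact Subtype.ext (Subsingleton.elim _ _)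
  · apply Subtype.ext
    show s.1 ^ 2 = 1
    rw [ha, smul_pow, one_pow, sq, LieClassical.SympCenter.sq_eq_one_of_smul_mem (Nat.le_add_left 1 m) (ha ▸ s.2), one_smul]

omit f in
theorem cv_bc {ι : Type} [Fintype ι] [DecidableEq ι] {m : ℕ} {J : Type} [Fintype J] [DecidableEq J] {W : Type} [Group W]
    {M : CoxeterMatrix (Fin m)} {A : Fin m → Fin m → ℤ} {cs : CoxeterSystem M W}
    {h : ChevalleyStructure.CoxeterGeom.IsCartan M A} {O : OS J cs h} {s : Fin m × Bool → Fin m × Bool}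
    {γ : (Fin m → ℤ) → Fin m → ℤ} {B : Matrix (Fin m) (Fin m) ℤ} [Finite W] (S : O.Sy s γ B)
    (h2 : Nonempty J → (2 : k) ≠ 0) {f : F →+* k} {Q0 : QuadraticForm F (ι → F)} (T : Bc p f Q0 e (rr J k S.inv))
    (hQ : Nice Q0) (l : Fin m × Bool) : Cv ↥(GF (S.F k p e) (O.G k)) (POmega F Q0) := by
  refine cv_of (T.io.codRestrict _ (T.io_mem S h2 hF hQ l)) (fun _ _ h => T.io_inj (congrArg Subtype.val h))
    ⟨?_⟩ (fun g => ?_) fun z hz => T.io_inj (Units.ext ?_)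
  · rintro _ ⟨t, rfl⟩ g
    obtain ⟨a, -, ha⟩ := (T.mem_GF S h2 hF hQ l).1 g.2
    refine ⟨⟨a * t * a⁻¹, Subgroup.Normal.conj_mem (Subgroup.commutator_normal ⊤ ⊤) _ t.2 a⟩, Subtype.ext ?_⟩
    show T.ψ (a.1 * t.1.1 * a.1⁻¹) = g.1 * T.ψ t.1.1 * g.1⁻¹
    rw [map_mul, map_mul, map_inv, ha]
  · obtain ⟨t, ht⟩ := T.sq_io S h2 hF hQ l g.2
    exact ⟨t, Subtype.ext ht⟩
  · rw [map_pow, map_one]
    show (T.io z).val ^ 2 = 1
    rcases T.cen hQ hz with e | e <;> simp [e]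

theorem cvB {m : ℕ} (h2 : (2 : k) ≠ 0) (hm : 2 ≤ m) :
    Cv ↥(GF ((osB m).sy_id.F k p e) ((osB m).G k)) (POmega F (quadFormOdd m F)) := by
  have := finB m
  rw [← coe_oddForm]
  exact cv_bc hF (osB m).sy_id (fun _ => h2) (bcB f m e) (nice_of (nondeg_oddForm _ _ fun h => h2 (by
    rw [← map_ofNat f, h, map_zero])) (by simp; omega) (.inr (.inl ⟨0, by omega⟩)) (by simp [coe_oddForm, quadFormOdd_apply]))
    (⟨0, by omega⟩, true)

theorem cvP {n : ℕ} (hn : 1 ≤ n) :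
    Cv ↥(GF ((osD n).sy_id.F k p e) ((osD n).G k)) (POmega F (quadFormPlus (n + 2) F)) := by
  have := ODD.C2.finD n
  rw [← coe_plusForm]
  exact cv_bc hF (osD n).sy_id h2D (bcP f (n + 2) e) (nice_of (nondeg_plusForm _ _) (by simp; omega) (.inl 0)
    (by simp [coe_plusForm, quadFormPlus_apply])) (0, true)

theorem cvM {n : ℕ} (hn : 1 ≤ n) {a b : F} (hab : ∀ z₁ z₂ : F, z₁ ^ 2 + a * z₁ * z₂ + b * z₂ ^ 2 = 0 → z₁ = 0 ∧ z₂ = 0) :
    Cv ↥(GF ((syD n).F k p e) ((osD n).G k)) (POmega F (quadFormMinus (n + 1) F a b)) := by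
  have := ODD.C2.finD n
  obtain ⟨l, l', h1, h2, h3, h4, h5⟩ := exists_roots f hF hab
  rw [← coe_minusForm]
  exact cv_bc hF (syD n) h2D (bcM f (n + 1) e h1 h2 h3 h4 h5) (nice_of (nondeg_minusForm _ _ _ _ hab) (by simp; omega)
    (.inl (.inl 0)) (by simp [coe_minusForm, quadFormMinus_apply])) (0, true)

end Dat

/-! ### the boxes -/

/-- height zero for `Sp_(2 n + 2)(q)`, `n ≥ 1` -/
def BoxC (l : ℕ) : Prop :=
  ∀ (p : ℕ) [Fact p.Prime] (k : Type) [Field k] [CharP k p] [IsAlgClosed k] (_ : ∀ a : k, ∃ j, 0 < j ∧ a ^ p ^ j = a)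
    (e : ℕ) (_ : 0 < e) (n : ℕ) [Fintype ↥(GF (FC (n + 1) k p e) (GC (n + 1) k))], l ≠ p → 1 ≤ n →
    AbS l ↥(GF (FC (n + 1) k p e) (GC (n + 1) k)) → ∀ M, IsPModular l M → HZ0 l M ↥(GF (FC (n + 1) k p e) (GC (n + 1) k))

/-- height zero for `SO_(2 n + 3)(q)` -/
def BoxB (l : ℕ) : Prop :=
  ∀ (p : ℕ) [Fact p.Prime] (k : Type) [Field k] [CharP k p] [IsAlgClosed k] (_ : (2 : k) ≠ 0)
    (_ : ∀ a : k, ∃ j, 0 < j ∧ a ^ p ^ j = a) (e : ℕ) (_ : 0 < e) (n : ℕ)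
    [Fintype ↥(GF ((osB (n + 1)).sy_id.F k p e) ((osB (n + 1)).G k))], l ≠ p → 2 ≤ n →
    AbS l ↥(GF ((osB (n + 1)).sy_id.F k p e) ((osB (n + 1)).G k)) → ∀ M, IsPModular l M →
    HZ0 l M ↥(GF ((osB (n + 1)).sy_id.F k p e) ((osB (n + 1)).G k))

/-- height zero for `SO⁺_(2 n + 4)(q)` -/
def BoxP (l : ℕ) : Prop :=
  ∀ (p : ℕ) [Fact p.Prime] (k : Type) [Field k] [CharP k p] [IsAlgClosed k] (_ : ∀ a : k, ∃ j, 0 < j ∧ a ^ p ^ j = a)
    (e : ℕ) (_ : 0 < e) (n : ℕ) [Fintype ↥(GF ((osD n).sy_id.F k p e) ((osD n).G k))], l ≠ p → 2 ≤ n →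
    AbS l ↥(GF ((osD n).sy_id.F k p e) ((osD n).G k)) → ∀ M, IsPModular l M →
    HZ0 l M ↥(GF ((osD n).sy_id.F k p e) ((osD n).G k))

/-- height zero for `SO⁻_(2 n + 4)(q)` -/
def BoxM (l : ℕ) : Prop :=
  ∀ (p : ℕ) [Fact p.Prime] (k : Type) [Field k] [CharP k p] [IsAlgClosed k] (_ : ∀ a : k, ∃ j, 0 < j ∧ a ^ p ^ j = a)
    (e : ℕ) (_ : 0 < e) (n : ℕ) [Fintype ↥(GF ((syD n).F k p e) ((osD n).G k))], l ≠ p → 2 ≤ n →
    AbS l ↥(GF ((syD n).F k p e) ((osD n).G k)) → ∀ M, IsPModular l M → HZ0 l M ↥(GF ((syD n).F k p e) ((osD n).G k))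

theorem exists_field {l : ℕ} (F : Type) [Field F] [Fintype F] (h : ¬ l ∣ Fintype.card F) :
    ∃ (p : ℕ) (_ : Fact p.Prime) (k : Type) (_ : Field k) (_ : CharP k p) (_ : IsAlgClosed k)
      (_ : ∀ a : k, ∃ j, 0 < j ∧ a ^ p ^ j = a) (e : ℕ) (_ : 0 < e) (_ : F →+* k), Fintype.card F = p ^ e ∧ l ≠ p := by
  obtain ⟨p, hp⟩ := CharP.exists F
  have : Fact p.Prime := ⟨CharP.char_is_prime F p⟩
  obtain ⟨k, _, _, _, hk, e, he, f, hF⟩ := hasC p F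
  exact ⟨p, ‹_›, k, ‹_›, ‹_›, ‹_›, hk, e, he, f, hF, fun h1 => h (hF ▸ h1 ▸ dvd_pow_self l he.ne')⟩

variable {l : ℕ} (h2 : l ≠ 2)
include h2

theorem psp_of (h : BoxC l) : Row l (PspX l) := fun M hM _ _ _ _ _ ⟨F, _, _, m, h1, hm, _, ⟨i⟩⟩ hA _ _ => by
  obtain ⟨p, _, k, _, _, _, hk, e, he, f, hF, hp⟩ := exists_field F h1
  obtain ⟨n, rfl⟩ : ∃ n, m = n + 1 := ⟨m - 1, by omega⟩
  have := Asm.finite_GF (datC (n + 1) hk he)
  have := Fintype.ofFinite ↥(GF (FC (n + 1) k p e) (GC (n + 1) k))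
  have c := (cvC f hF (n + 1)).congr i
  exact c.hz hM (h p k hk e he n hp (by omega) (c.abS hM.1 h2 hA) M hM)

theorem odd_of (h : BoxB l) : Row l (OddX l) := fun M hM _ _ _ _ _ ⟨F, _, _, m, h1, hm, ho, ⟨i⟩⟩ hA _ _ => by
  obtain ⟨p, _, k, _, _, _, hk, e, he, f, hF, hp⟩ := exists_field F h1
  obtain ⟨n, rfl⟩ : ∃ n, m = n + 1 := ⟨m - 1, by omega⟩
  have h3 : (2 : k) ≠ 0 := two_ne hF ho he
  have := Asm.finite_GF (datB (n + 1) h3 hk he)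
  have := Fintype.ofFinite ↥(GF ((osB (n + 1)).sy_id.F k p e) ((osB (n + 1)).G k))
  have c := (cvB f hF h3 (m := n + 1) (by omega)).congr i
  exact c.hz hM (h p k h3 hk e he n hp (by omega) (c.abS hM.1 h2 hA) M hM)

theorem plus_of (h : BoxP l) : Row l (PlusX l) := fun M hM _ _ _ _ _ ⟨F, _, _, m, h1, hm, ⟨i⟩⟩ hA _ _ => by
  obtain ⟨p, _, k, _, _, _, hk, e, he, f, hF, hp⟩ := exists_field F h1
  obtain ⟨n, rfl⟩ : ∃ n, m = n + 2 := ⟨m - 2, by omega⟩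
  have := Asm.finite_GF (datP n hk he)
  have := Fintype.ofFinite ↥(GF ((osD n).sy_id.F k p e) ((osD n).G k))
  have c := (cvP f hF (n := n) (by omega)).congr i
  exact c.hz hM (h p k hk e he n hp (by omega) (c.abS hM.1 h2 hA) M hM)

theorem minus_of (h : BoxM l) : Row l (MinusX l) := fun M hM _ _ _ _ _ ⟨F, _, _, m, _, _, h1, hm, hab, ⟨i⟩⟩ hA _ _ => by
  obtain ⟨p, _, k, _, _, _, hk, e, he, f, hF, hp⟩ := exists_field F h1
  obtain ⟨n, rfl⟩ : ∃ n, m = n + 2 := ⟨m - 2, by omega⟩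
  have := Asm.finite_GF (datM n hk he)
  have := Fintype.ofFinite ↥(GF ((syD n).F k p e) ((osD n).G k))
  have c := (cvM f hF (n := n) (by omega) hab).congr i
  exact c.hz hM (h p k hk e he n hp (by omega) (c.abS hM.1 h2 hA) M hM)

omit h2

/-! ### `l = 3` and `l = 5` -/

section Bd

variable {p : ℕ} [Fact p.Prime] {k : Type} [Field k] [CharP k p] {Y : Type} [Group Y] {N : Type} [Fintype N]
  [DecidableEq N] {ρ : Y →* GL N k} {F : MulAut Y} {G : Subgroup Y} [IsAlgClosed k] {D : Datum p ρ F G}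
  {ev : Prop} {e n : ℕ} (P : SP D (n + 1) ev) {η : ℤˣ} (hM : P.P * D.Mx = (p : ℤ) ^ e • spm 1 (lsg n η) * P.P)
  [Fintype ↥(GF F G)]

include hM

theorem bd3 (hp : 3 ≠ p) (hA : AbS 3 ↥(GF F G)) : n ≤ 1 ∨ n = 2 ∧ ev := by
  obtain ⟨ε, h⟩ := exists_sign (not_three_pow Fact.out hp.symm e)
  rcases bound1 P hM Nat.prime_three (by decide) hp h hA with h | h
  · omega
  · exact .inr ⟨by omega, h.2.1⟩

/-- the rank bounds for `l = 5` -/
def Bd5 (q : ℤ) (m : ℕ) (ev : Prop) (η : ℤˣ) : Prop :=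
  (∃ ε : ℤˣ, 5 ∣ ε * q - 1 ∧ (m ≤ 4 ∨ m = 5 ∧ ev ∧ η ≠ ε)) ∨ 5 ∣ q ^ 2 + 1 ∧ (m ≤ 9 ∨ m = 10 ∧ ev ∧ η = 1)

theorem bd5 (hp : 5 ≠ p) (hA : AbS 5 ↥(GF F G)) : Bd5 ((p : ℤ) ^ e) (n + 1) ev η := by
  have h : ¬ (5 : ℤ) ∣ (p : ℤ) ^ e := fun h => hp ((Nat.prime_dvd_prime_iff_eq Nat.prime_five Fact.out).1
    (Int.natCast_dvd_natCast.1 ((Nat.prime_iff_prime_int.1 Nat.prime_five).dvd_of_dvd_pow h)))
  generalize (p : ℤ) ^ e = q at h hM
  by_cases h1 : ∃ ε : ℤˣ, 5 ∣ ε * q - 1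
  · obtain ⟨ε, h1⟩ := h1
    exact .inl ⟨ε, h1, (bound1 P hM Nat.prime_five (by decide) hp h1 hA).imp_left fun h => by omega⟩
  · have h2 : ¬ 5 ∣ q - 1 := fun e => h1 ⟨1, by simpa using e⟩
    have h3 : ¬ 5 ∣ -q - 1 := fun e => h1 ⟨-1, by simpa using e⟩
    have h4 : 5 ∣ q ^ 2 + 1 := by
      rcases (by omega : 5 ∣ q - 2 ∨ 5 ∣ q + 2) with h | h
      · exact (show q ^ 2 + 1 = (q - 2) * (q + 2) + 5 by ring) ▸ (h.mul_right _).add dvd_rfl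
      · exact (show q ^ 2 + 1 = (q - 2) * (q + 2) + 5 by ring) ▸ (h.mul_left _).add dvd_rfl
    exact .inr ⟨h4, (bound4 P hM hp h4 hA).imp_left fun h => by omega⟩

end Bd

theorem odd3 : Row 3 (OddX 3) := odd_of (by decide) fun _ _ _ _ _ _ h2 hk _ he n _ hp hn hA => by
  rcases bd3 _ (mxB hk he n h2) hp hA with h | h
  · omega
  · exact h.2.elim

theorem plus3 : Row 3 (PlusX 3) := plus_of (by decide) fun _ _ _ _ _ _ hk _ he n _ hp hn hA => by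
  have := bd3 _ (mxP hk he n) hp hA
  omega

theorem minus3 : Row 3 (MinusX 3) := minus_of (by decide) fun _ _ _ _ _ _ hk _ he n _ hp hn hA => by
  have := bd3 _ (mxM hk he n) hp hA
  omega

theorem psp3 : Row 3 (PspX 3) := fun M hM _ _ _ _ _ ⟨F, _, _, m, h1, hm, _, ⟨i⟩⟩ hA _ _ => by
  rcases hm.eq_or_lt with rfl | hm
  · have := Finite.of_equiv _ i.toEquiv
    exact (Sm.hz_psp4 F h1 hM).of_equiv i.symm
  obtain ⟨p, _, k, _, _, _, hk, e, he, f, hF, hp⟩ := exists_field F h1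
  obtain ⟨n, rfl⟩ : ∃ n, m = n + 1 := ⟨m - 1, by omega⟩
  have := Asm.finite_GF (datC (n + 1) hk he)
  have := Fintype.ofFinite ↥(GF (FC (n + 1) k p e) (GC (n + 1) k))
  rcases bd3 _ (mxC hk he n) hp (((cvC f hF (n + 1)).congr i).abS hM.1 (by decide) hA) with h | h
  · omega
  · exact h.2.elim

end Cfsg.Agent.LV.Rk
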