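import Cfsg.Agent.LV.Rk.Val
import Cfsg.Agent.LV.Cl.Syl

/-!
# LV, classical groups: the rows for `l = 5` from `BoxHZ` (helper22)

`exists_fm` : the frame of a signed permutation structure; `psp5`, `odd5`, `plus5`, `minus5`.
-/

set_option autoImplicit false
set_option linter.unusedSectionVars false

namespace Cfsg.Agent.LV.Rk

open Cfsg Cfsg.Agent.DL Cfsg.Agent.DL.PP Cfsg.Agent.KZ Cfsg.Agent.KZ.Lie Cfsg.Agent.KZ.Dat Cfsg.Agent.KZ.ClB
  Cfsg.Agent.KZ.ClD Cfsg.Agent.KZ.Dat.Om Cfsg.Agent.KZ.Ch3X Cfsg.Agent.LV.Blk Cfsg.Agent.LV.Cl Matrix Equiv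

section

variable {p : ℕ} [Fact p.Prime] {k : Type} [Field k] [CharP k p] {Y : Type} [Group Y] {N : Type} [Fintype N]
  [DecidableEq N] {ρ : Y →* GL N k} {F : MulAut Y} {G : Subgroup Y} [IsAlgClosed k] {D : Datum p ρ F G}
  {ev : Prop} {e n : ℕ} (P : SP D (n + 1) ev)

/-- the embedding of the Weyl group -/
noncomputable def emb : D.W →* SG (n + 1) :=
  MonoidHom.mk' (fun w => ⟨P.π w, P.s w⟩) fun a b => SG.ext (map_mul P.π a b) (funext (P.s_mul a b))

theorem emb_eq {w : D.W} {g : SG (n + 1)} {π : Perm (Fin (n + 1))} {s : Fin (n + 1) → ℤˣ}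
    (h : P.P * D.Wm w = spm π s * P.P) (h1 : π = g.π) (h2 : s = g.s) : emb P w = g :=
  SG.ext ((P.eq_iff.1 h).1.trans h1) ((P.eq_iff.1 h).2.trans h2)

/-- The simple reflections are the standard ones. -/
structure Sd (b : Bool) : Type where
  nd : Fin (n + 1) ≃ D.I
  ev : ev ↔ b = false
  qs : D.QS
  lt : ∀ (i : Fin (n + 1)) (hi : (i : ℕ) + 1 < n + 1), P.P * D.Wm (D.cs.simple (nd i)) = spm (swap i ⟨i + 1, hi⟩) 1 * P.P
  lastB : b = true → ∀ i : Fin (n + 1), ¬ (i : ℕ) + 1 < n + 1 →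
    P.P * D.Wm (D.cs.simple (nd i)) = spm 1 (Pi.mulSingle i (-1)) * P.P
  lastD : b = false → ∀ i j : Fin (n + 1), (j : ℕ) = i + 1 → ¬ (j : ℕ) + 1 < n + 1 →
    P.P * D.Wm (D.cs.simple (nd j)) = spm (swap j i) (Pi.mulSingle j (-1) * Pi.mulSingle i (-1)) * P.P

variable {P} {b : Bool} (S : Sd P b) {η : ℤˣ} (hM : P.P * D.Mx = (p : ℤ) ^ e • spm 1 (lsg n η) * P.P) (hη : b = true → η = 1)

include S hM hη

theorem exists_fm (h1 : 1 ≤ n) (h2 : n + 1 ≤ 10) : ∃ Φ : Fm D (n + 1) b (p ^ e), sgn Φ.E.τ = η := by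
  refine ⟨⟨⟨emb P, fun _ _ h => P.ext (fun j => congrArg (·.π j) h) fun j => congrArg (·.s j) h, fun g hg => ?_,
    fun h w => P.even (S.ev.2 h) w, S.nd, fun i j hj => ?_, fun h j hj => ?_, fun h i j hj hl => ?_, by omega, h2,
    ⟨1, lsg n η⟩, ?_, fun v => ?_⟩, P.P, P.P', P.PP', P.P'P, P.eq, by rw [Nat.cast_pow]; exact hM, S.qs⟩, prod_lsg n η⟩
  · obtain ⟨w, hw⟩ := P.exists_w g.π (s := g.s) fun h => hg (S.ev.1 h)
    exact ⟨w, SG.ext hw.1 hw.2⟩
  · exact emb_eq P (S.lt i (hj ▸ j.2)) (congrArg (swap i) (Fin.ext hj.symm)) (funext fun _ => (ite_self _).symm)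
  · exact emb_eq P (S.lastB h j (by omega)) rfl (funext fun x => Pi.mulSingle_apply j (-1) x)
  · refine emb_eq P (S.lastD h i j hj (by omega)) (swap_comm j i) (funext fun x => ?_)
    have h3 : i ≠ j := fun e => by rw [e] at hj; omega
    show _ = if x = i ∨ x = j then -1 else 1
    rw [Pi.mul_apply, Pi.mulSingle_apply, Pi.mulSingle_apply]
    by_cases h4 : x = i
    · rw [if_pos h4, if_neg (h4 ▸ h3), if_pos (.inl h4), one_mul]
    · rw [if_neg h4, mul_one]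
      exact if_congr (or_iff_right h4).symm rfl rfl
  · rcases Int.units_eq_one_or η with rfl | rfl
    · exact .inl (SG.ext rfl (lsg_one n))
    · exact .inr ⟨Bool.eq_false_iff.2 fun h => absurd (hη h) (by decide), Fin.last n, rfl,
        SG.ext rfl (funext fun x => Pi.mulSingle_apply _ (-1) x)⟩
  · have h3 : (p : ℤ) ^ e • (spm (P.π (D.Fw v)) (P.s (D.Fw v)) * spm 1 (lsg n η)) =
        (p : ℤ) ^ e • (spm 1 (lsg n η) * spm (P.π v) (P.s v)) := P.cancel_right (by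
      rw [← Matrix.mul_smul, Matrix.mul_assoc, ← hM, ← Matrix.mul_assoc, ← P.eq, Matrix.mul_assoc, ← D.Mx_Wm,
        ← Matrix.mul_assoc, hM, Matrix.mul_assoc, P.eq, ← Matrix.mul_assoc, Matrix.smul_mul])
    have h4 := smul_right_injective _ (pow_ne_zero e (Int.natCast_ne_zero.2 (Fact.out : p.Prime).ne_zero)) h3
    rw [spm_mul, spm_mul, spm_inj] at h4
    exact eq_mul_inv_of_mul_eq (SG.ext h4.1 h4.2)

/-- height zero for a classical datum -/
theorem hz5 (hZ : BoxHZ) (hO : BoxOrd) [Fintype ↥(GF F G)] (he : 0 < e) (hp : 5 ≠ p) (h1 : 1 ≤ n) (hA : AbS 5 ↥(GF F G))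
    (h : (Nat.card ↥(GF F G)).factorization 5 = (ordP b (n + 1) η (p ^ e)).factorization 5) {M : Ideal AlgInt}
    (hM5 : IsPModular 5 M) : HZ0 5 M ↥(GF F G) := by
  obtain ⟨d, h2, h3⟩ := rg5 P hM hp hA S.ev.1
  obtain ⟨Φ, rfl⟩ := exists_fm S hM hη h1 (le_of_rg h3)
  exact hZ Φ hp h2 h3 (sylT_of hO Φ (Nat.one_lt_pow he.ne' (Fact.out : p.Prime).one_lt) h2 h3 h) M hM5

end

section

variable {p : ℕ} [Fact p.Prime] {k : Type} [Field k] [CharP k p] [IsAlgClosed k]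
  (hk : ∀ a : k, ∃ j, 0 < j ∧ a ^ p ^ j = a) {e : ℕ} (he : 0 < e)

/-- type `C` -/
def sdC (n : ℕ) : Sd (spC hk he (n + 1)) true where
  nd := Equiv.refl _
  ev := ⟨False.elim, fun h => nomatch h⟩
  qs := datC_qs hk he
  lt i hi := (one_mx.one_comm' n ((wmC_simple hk he i).trans (reflC_lt i hi)) :)
  lastB _ i hi := (one_mx.one_comm' n ((wmC_simple hk he i).trans (reflC_last i hi)) :)
  lastD h := nomatch h

/-- type `B` -/
def sdB (n : ℕ) (h2 : (2 : k) ≠ 0) : Sd (spB hk he (n + 1) h2) true where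
  nd := Equiv.refl _
  ev := ⟨False.elim, fun h => nomatch h⟩
  qs := datB_qs h2 hk he
  lt i hi := (one_mx.one_comm' n ((wmB_simple h2 hk he i).trans (reflB_lt i hi)) :)
  lastB _ i hi := (one_mx.one_comm' n ((wmB_simple h2 hk he i).trans (reflB_last i hi)) :)
  lastD h := nomatch h

/-- type `D` -/
def sdD {n : ℕ} {s : Fin (n + 2) × Bool → Fin (n + 2) × Bool} {γ : (Fin (n + 2) → ℤ) → Fin (n + 2) → ℤ}
    {B : Matrix (Fin (n + 2)) (Fin (n + 2)) ℤ} (sy : (osD n).Sy s γ B) : Sd (spD hk he sy) false where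
  nd := Equiv.refl _
  ev := ⟨fun _ => rfl, fun _ => trivial⟩
  qs := datD_qs sy hk he
  lt i hi := one_comm ((wmD_simple sy hk he i).trans (reflD_lt i hi))
  lastB h := nomatch h
  lastD _ i j hj hl := by
    obtain rfl : i = Nodes.TypeD.pd n := Fin.ext (show (i : ℕ) = n by have := j.2; omega)
    exact one_comm ((wmD_simple sy hk he j).trans (reflD_last j hl))

end

variable (hZ : BoxHZ) (hO : BoxOrd)
include hZ hO

theorem psp5 : Row 5 (PspX 5) := fun M hM _ _ _ _ _ ⟨F, _, _, m, h1, hm, _, ⟨i⟩⟩ hA _ _ => by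
  obtain ⟨p, _, k, _, _, _, hk, e, he, f, hF, hp⟩ := exists_field F h1
  obtain ⟨n, rfl⟩ : ∃ n, m = n + 1 := ⟨m - 1, by omega⟩
  have := Asm.finite_GF (datC (n + 1) hk he)
  have := Fintype.ofFinite ↥(GF (FC (n + 1) k p e) (GC (n + 1) k))
  have c := (cvC f hF (n + 1)).congr i
  exact c.hz hM (hz5 (sdC hk he n) (mxC hk he n) (fun _ => rfl) hZ hO he hp (by omega) (c.abS hM.1 (by decide) hA)
    (valC hM.1 (by decide) f hF hp _) hM)

theorem odd5 : Row 5 (OddX 5) := fun M hM _ _ _ _ _ ⟨F, _, _, m, h1, hm, ho, ⟨i⟩⟩ hA _ _ => by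
  obtain ⟨p, _, k, _, _, _, hk, e, he, f, hF, hp⟩ := exists_field F h1
  obtain ⟨n, rfl⟩ : ∃ n, m = n + 1 := ⟨m - 1, by omega⟩
  have h3 : (2 : k) ≠ 0 := two_ne hF ho he
  have := Asm.finite_GF (datB (n + 1) h3 hk he)
  have := Fintype.ofFinite ↥(GF ((osB (n + 1)).sy_id.F k p e) ((osB (n + 1)).G k))
  have c := (cvB f hF h3 (m := n + 1) (by omega)).congr i
  exact c.hz hM (hz5 (sdB hk he n h3) (mxB hk he n h3) (fun _ => rfl) hZ hO he hp (by omega) (c.abS hM.1 (by decide) hA)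
    (valB hM.1 (by decide) hk he f hF hp h3 ho hm) hM)

theorem plus5 : Row 5 (PlusX 5) := fun M hM _ _ _ _ _ ⟨F, _, _, m, h1, hm, ⟨i⟩⟩ hA _ _ => by
  obtain ⟨p, _, k, _, _, _, hk, e, he, f, hF, hp⟩ := exists_field F h1
  obtain ⟨n, rfl⟩ : ∃ n, m = n + 2 := ⟨m - 2, by omega⟩
  have := Asm.finite_GF (datP n hk he)
  have := Fintype.ofFinite ↥(GF ((osD n).sy_id.F k p e) ((osD n).G k))
  have c := (cvP f hF (n := n) (by omega)).congr i
  refine c.hz hM (hz5 (sdD hk he _) (mxP hk he n) (fun _ => rfl) hZ hO he hp (by omega) (c.abS hM.1 (by decide) hA)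
    ((valP hM.1 (by decide) hk he f hF hp (by omega)).trans (congrArg (fun x : ℕ => (x * _).factorization 5) ?_)) hM)
  exact (Int.natAbs_natCast _).symm.trans (congrArg Int.natAbs (by
    rw [Nat.cast_sub (Nat.one_le_pow _ _ (Nat.pow_pos (Fact.out : p.Prime).pos)), Nat.cast_pow]; rfl))

theorem minus5 : Row 5 (MinusX 5) := fun M hM _ _ _ _ _ ⟨F, _, _, m, _, _, h1, hm, hab, ⟨i⟩⟩ hA _ _ => by
  obtain ⟨p, _, k, _, _, _, hk, e, he, f, hF, hp⟩ := exists_field F h1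
  obtain ⟨n, rfl⟩ : ∃ n, m = n + 2 := ⟨m - 2, by omega⟩
  have := Asm.finite_GF (datM n hk he)
  have := Fintype.ofFinite ↥(GF ((syD n).F k p e) ((osD n).G k))
  have c := (cvM f hF (n := n) (by omega) hab).congr i
  refine c.hz hM (hz5 (sdD hk he _) (mxM hk he n) (fun h => nomatch h) hZ hO he hp (by omega) (c.abS hM.1 (by decide) hA)
    ((valM hM.1 (by decide) hk he f hF hp (by omega) hab).trans (congrArg (fun x : ℕ => (x * _).factorization 5) ?_)) hM)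
  exact (Int.natAbs_natCast _).symm.trans (congrArg Int.natAbs (by
    rw [Nat.cast_add, Nat.cast_pow, Units.val_neg, sub_neg_eq_add]; rfl))

end Cfsg.Agent.LV.Rk
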