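import Cfsg.Agent.LV.Blk.Sit
import Cfsg.Agent.KZ.ClD.Row

/-!
# LV, classical groups: abelian Sylow subgroups bound the rank (helper22)

`P : SP D (n + 1) ev`, `P.P * D.Mx = q • spm 1 (lsg n η) * P.P`; `bound1` (`l ∣ q ∓ 1`), `bound4` (`5 ∣ q ^ 2 + 1`).
-/

set_option autoImplicit false
set_option linter.unusedSectionVars false

namespace Cfsg.Agent.LV.Rk

open Cfsg Cfsg.Agent.DL Cfsg.Agent.DL.PP Cfsg.Agent.KZ Cfsg.Agent.KZ.Lie Cfsg.Agent.KZ.Dat Cfsg.Agent.KZ.ClB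
  Cfsg.Agent.KZ.ClD Cfsg.Agent.LV.Blk Matrix Equiv

variable {p : ℕ} [Fact p.Prime] {k : Type} [Field k] [CharP k p] {Y : Type} [Group Y] {N : Type} [Fintype N]
  [DecidableEq N] {ρ : Y →* GL N k} {F : MulAut Y} {G : Subgroup Y} [IsAlgClosed k] {D : Datum p ρ F G}
  {ev : Prop} {l : ℕ} {q : ℤ}

section

variable {m : ℕ} (P : SP D m ev) {t : Fin m → ℤˣ} (hM : P.P * D.Mx = q • spm 1 t * P.P)

include hM in
/-- the torus of a signed permutation -/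
theorem exists_tor (π : Perm (Fin m)) {s : Fin m → ℤˣ} (hs : ev → ∏ a, s a = ∏ a, t a) :
    ∃ w, P.P * (D.Wm w * D.Mx) = q • spm π s * P.P := by
  obtain ⟨w, hw⟩ := P.exists_w π (s := s * t) fun h => by
    simp only [Pi.mul_apply, Finset.prod_mul_distrib, hs h, Int.units_mul_self]
  refine ⟨w, ?_⟩
  rw [← Matrix.mul_assoc, P.eq_iff.2 hw, Matrix.mul_assoc, hM, ← Matrix.mul_assoc, Matrix.mul_smul, spm_mul, mul_one]
  congr 3
  funext j
  rw [Perm.one_apply, Pi.mul_apply, mul_assoc, Int.units_mul_self, mul_one]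

theorem dvd_of_P {a : ℤ} {u : D.R → ℤ} (h : ∀ j, a ∣ (P.P *ᵥ u) j) (i : D.R) : a ∣ u i := by
  rw [← P.P'_P u]
  generalize P.P *ᵥ u = z at h
  rw [mulVec, dotProduct]
  exact Finset.dvd_sum fun j _ => (h j).mul_left _

theorem dvd_P {a : ℤ} {u : D.R → ℤ} (h : ∀ i, a ∣ u i) (j : Fin m) : a ∣ (P.P *ᵥ u) j :=
  Finset.dvd_sum fun i _ => (h i).mul_left _

include hM in
theorem not_abS_of [Fintype ↥(GF F G)] (hl : l.Prime) (hp : l ≠ p) (π σ : Perm (Fin m)) {s : Fin m → ℤˣ}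
    (hs : ev → ∏ a, s a = ∏ a, t a) (hc : σ * π = π * σ) (hs' : ∀ j, s (σ j) = s j) (hσ : σ ^ l = 1) (x : Fin m → ℤ)
    (hx : ∀ j, (l : ℤ) ∣ q * (s j * x j) - x (π j)) {j : Fin m} (hj : ¬ (l : ℤ) ∣ x j - x (σ j)) : ¬ AbS l ↥(GF F G) := by
  obtain ⟨w, hw⟩ := exists_tor P hM π hs
  have hv : P.P * D.Wm (P.pw σ) = spm σ 1 * P.P := P.eq_iff.2 ⟨P.π_pw σ, funext (P.s_pw σ)⟩
  refine not_abS (w := w) (v := P.pw σ) hl hp (Cl.mem_CW_iff.2 (P.cancel_left ?_))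
    ⟨1, by rw [pow_one, ← map_pow, hσ, map_one]⟩ ⟨1, P.P' *ᵥ x, dvd_of_P P fun i => ?_, fun h => hj ?_⟩
  · rw [← Matrix.mul_assoc, hv, Matrix.mul_assoc, hw, ← Matrix.mul_assoc P.P, hw, Matrix.mul_assoc _ P.P, hv,
      ← Matrix.mul_assoc, ← Matrix.mul_assoc, Matrix.mul_smul, Matrix.smul_mul q (spm π s) (spm σ 1), spm_mul, spm_mul, hc]
    congr 3
    funext j
    rw [hs', Pi.one_apply, Pi.one_apply, mul_one, one_mul]
  · obtain ⟨i, rfl⟩ := π.surjective i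
    rw [pow_one, sub_mulVec, one_mulVec, mulVec_sub, P.P_P', mulVec_mulVec, hw, ← mulVec_mulVec, P.P_P', smul_mulVec,
      Pi.sub_apply, Pi.smul_apply, spm_mulVec]
    exact hx i
  · have h2 := dvd_P P h (σ j)
    rwa [pow_one, sub_mulVec, one_mulVec, mulVec_sub, P.P_P', mulVec_mulVec, hv, ← mulVec_mulVec, P.P_P', Pi.sub_apply,
      spm_mulVec, Pi.one_apply, Units.val_one, one_mul] at h2

end

theorem lsg_ne {n : ℕ} (θ : ℤˣ) {j : Fin (n + 1)} (h : j ≠ Fin.last n) : lsg n θ j = 1 :=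
  Pi.mulSingle_eq_of_ne (M := fun _ => ℤˣ) h θ

theorem lsg_ex {n r : ℕ} (h : r ≤ n + 1) (g : Perm (Fin r)) {θ : ℤˣ} (hθ : r = n + 1 → θ = 1) (j : Fin (n + 1)) :
    lsg n θ (ex h g j) = lsg n θ j := by
  by_cases h1 : r = n + 1
  · rw [hθ h1, lsg_one, Pi.one_apply, Pi.one_apply]
  rcases seg_cases h j with ⟨a, rfl⟩ | hj
  · rw [ex_lt, lsg_ne, lsg_ne] <;> exact fun e => by
      have h2 := congrArg Fin.val e
      have h3 := (g a).2
      have h4 := a.2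
      simp only [Fin.val_castLE, Fin.val_last] at h2
      omega
  · rw [ex_ge h g hj]

variable {n : ℕ} (P : SP D (n + 1) ev) {η : ℤˣ} (hM : P.P * D.Mx = q • spm 1 (lsg n η) * P.P) [Fintype ↥(GF F G)]

include hM in
/-- an initial segment -/
theorem not_abS_seg (hl : l.Prime) (hp : l ≠ p) {r : ℕ} (h : r ≤ n + 1) (π σ : Perm (Fin r)) (s : Fin r → ℤˣ) (ε θ : ℤˣ)
    (hθ : r = n + 1 → θ = 1) (hs : ev → (∏ a, s a) * ε ^ (n + 1) * θ = η) (hc : σ * π = π * σ) (hs' : ∀ j, s (σ j) = s j)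
    (hσ : σ ^ l = 1) (x : Fin r → ℤ) (hx : ∀ j, (l : ℤ) ∣ q * (s j * ε * x j) - x (π j)) {j : Fin r}
    (hj : ¬ (l : ℤ) ∣ x j - x (σ j)) : ¬ AbS l ↥(GF F G) := by
  have h1 : ∀ a : Fin r, lsg n θ (Fin.castLE h a) = 1 := fun a => by
    by_cases h1 : r = n + 1
    · rw [hθ h1, lsg_one, Pi.one_apply]
    · exact lsg_ne _ fun e => by
        have h2 := congrArg Fin.val e
        have h4 := a.2
        simp only [Fin.val_castLE, Fin.val_last] at h2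
        omega
  refine not_abS_of P hM hl hp (ex h π) (ex h σ)
    (s := fun j => (if hj : (j : ℕ) < r then s ⟨j, hj⟩ else 1) * ε * lsg n θ j) (fun e => ?_)
    (by rw [← map_mul, hc, map_mul]) (fun j => ?_) (by rw [← map_pow, hσ, map_one])
    (fun j => if hj : (j : ℕ) < r then x ⟨j, hj⟩ else 0) (fun j => ?_) (j := Fin.castLE h j) ?_
  · rw [Finset.prod_mul_distrib, Finset.prod_mul_distrib, prod_lsg, prod_lsg, ← hs e, Finset.prod_const, Finset.card_univ,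
      Fintype.card_fin, ← Fintype.prod_of_injective _ (Fin.castLE_injective h) s _
        (fun j hj => dif_neg fun h1 => hj ⟨⟨j, h1⟩, rfl⟩) fun a => by
          rw [dif_pos (show (Fin.castLE h a : ℕ) < r from a.2)]; rfl]
  · rw [lsg_ex h σ hθ]
    rcases seg_cases h j with ⟨a, rfl⟩ | hj
    · rw [ex_lt]
      rw [dif_pos (show (Fin.castLE h a : ℕ) < r from a.2), dif_pos (show (Fin.castLE h (σ a) : ℕ) < r from (σ a).2)]
      exact congrArg (· * ε * _) (hs' a)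
    · rw [ex_ge h σ hj]
  · rcases seg_cases h j with ⟨a, rfl⟩ | hj
    · rw [ex_lt, h1, mul_one, dif_pos (show (Fin.castLE h a : ℕ) < r from a.2),
        dif_pos (show (Fin.castLE h a : ℕ) < r from a.2), dif_pos (show (Fin.castLE h (π a) : ℕ) < r from (π a).2),
        Units.val_mul]
      exact hx a
    · rw [ex_ge h π hj, dif_neg hj, dif_neg hj, mul_zero, mul_zero, sub_zero]
      exact dvd_zero _
  · rw [ex_lt, dif_pos (show (Fin.castLE h j : ℕ) < r from j.2), dif_pos (show (Fin.castLE h (σ j) : ℕ) < r from (σ j).2)]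
    exact hj

include hM in
/-- **`l ∣ q - 1` or `l ∣ q + 1`** -/
theorem bound1 (hl : l.Prime) (h2 : l ≠ 2) (hp : l ≠ p) {ε : ℤˣ} (h : (l : ℤ) ∣ ε * q - 1) (hA : AbS l ↥(GF F G)) :
    n + 1 < l ∨ n + 1 = l ∧ ev ∧ η ≠ ε := by
  by_contra h1
  rw [not_or, not_lt] at h1
  obtain ⟨h3, h4⟩ := h1
  obtain ⟨r, rfl⟩ : ∃ r, l = r + 2 := ⟨l - 2, by have := hl.two_le; omega⟩
  obtain ⟨θ, h5, h6⟩ : ∃ θ : ℤˣ, (r + 2 = n + 1 → θ = 1) ∧ (ev → ε ^ (n + 1) * θ = η) := by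
    by_cases e : r + 2 = n + 1
    · refine ⟨1, fun _ => rfl, fun e1 => ?_⟩
      rw [mul_one, ← e, Int.units_pow_eq_pow_mod_two, Nat.odd_iff.1 (hl.odd_of_ne_two h2), pow_one]
      exact (not_not.1 fun e2 => h4 ⟨e.symm, e1, fun e3 => e2 e3.symm⟩)
    · exact ⟨ε ^ (n + 1) * η, fun e1 => absurd e1 e, fun _ => by rw [← mul_assoc, Int.units_mul_self, one_mul]⟩
  refine not_abS_seg P hM hl hp h3 1 (finRotate (r + 2)) 1 ε θ h5
    (fun e => by rw [← h6 e, Finset.prod_eq_one (f := 1) fun _ _ => rfl, one_mul]) (by rw [mul_one, one_mul]) (fun _ => rfl)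
    ?_ (Pi.single 0 1) (fun j => ?_) (j := 0) ?_ hA
  · have h7 := (isCycle_finRotate (n := r)).orderOf
    rw [support_finRotate, Finset.card_univ, Fintype.card_fin] at h7
    exact orderOf_dvd_iff_pow_eq_one.1 h7.dvd
  · rw [Pi.one_apply, Units.val_one, one_mul, Perm.one_apply, ← mul_assoc, mul_comm q, ← sub_one_mul]
    exact h.mul_right _
  · rw [finRotate_apply, zero_add, Pi.single_eq_same, Pi.single_eq_of_ne Fin.zero_ne_one.symm, sub_zero]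
    exact fun e => hl.one_lt.ne' (by exact_mod_cast Int.eq_one_of_dvd_one (Int.natCast_nonneg _) e)

/-- five transpositions -/
def p10 : Perm (Fin 10) := ⟨![1, 0, 3, 2, 5, 4, 7, 6, 9, 8], ![1, 0, 3, 2, 5, 4, 7, 6, 9, 8], by decide, by decide⟩

/-- two cycles of length five -/
def s10 : Perm (Fin 10) := ⟨![2, 3, 4, 5, 6, 7, 8, 9, 0, 1], ![8, 9, 0, 1, 2, 3, 4, 5, 6, 7], by decide, by decide⟩

include hM in
/-- **`5 ∣ q ^ 2 + 1`** -/
theorem bound4 (hp : 5 ≠ p) (h : (5 : ℤ) ∣ q ^ 2 + 1) (hA : AbS 5 ↥(GF F G)) :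
    n + 1 < 10 ∨ n + 1 = 10 ∧ ev ∧ η = 1 := by
  by_contra h1
  rw [not_or, not_lt] at h1
  obtain ⟨h3, h4⟩ := h1
  obtain ⟨θ, h5, h6⟩ : ∃ θ : ℤˣ, (10 = n + 1 → θ = 1) ∧ (ev → -θ = η) := by
    by_cases e : 10 = n + 1
    · exact ⟨1, fun _ => rfl, fun e1 => ((Int.units_eq_one_or η).resolve_left fun e2 => h4 ⟨e.symm, e1, e2⟩).symm⟩
    · exact ⟨-η, fun e1 => absurd e1 e, fun _ => neg_neg η⟩
  refine not_abS_seg P hM Nat.prime_five hp h3 p10 s10 ![1, -1, 1, -1, 1, -1, 1, -1, 1, -1] 1 θ h5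
    (fun e => by rw [← h6 e, one_pow, mul_one, (by decide : ∏ a, (![1, -1, 1, -1, 1, -1, 1, -1, 1, -1] : Fin 10 → ℤˣ) a = -1),
      neg_one_mul]) (by decide) (by decide) (by decide) ![1, q, 0, 0, 0, 0, 0, 0, 0, 0] (fun j => ?_) (j := 0)
    (show ¬ ((5 : ℕ) : ℤ) ∣ 1 - 0 by decide) hA
  fin_cases j
  · exact ⟨0, show q * (1 * 1 * 1) - q = _ by ring⟩
  · exact (show q * (-1 * 1 * q) - 1 = -(q ^ 2 + 1) by ring) ▸ h.neg_right
  all_goals exact ⟨0, show q * (_ * 0) - 0 = _ by ring⟩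

end Cfsg.Agent.LV.Rk
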