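import Cfsg.Agent.LV.Rk.Frame
import Cfsg.Agent.LV.Cl.Fm

/-!
# LV, classical groups: the rank bounds in the form `Rg` (helper22)
-/

set_option autoImplicit false

namespace Cfsg.Agent.LV.Rk

open Cfsg Cfsg.Agent.DL Cfsg.Agent.DL.PP Cfsg.Agent.KZ Cfsg.Agent.KZ.Lie Cfsg.Agent.KZ.Dat Cfsg.Agent.KZ.ClB
  Cfsg.Agent.KZ.ClD Cfsg.Agent.LV.Blk Cfsg.Agent.LV.Cl Matrix Equiv

theorem Bd5.rg {q m : ℕ} {ev : Prop} {η : ℤˣ} {b : Bool} (h : Bd5 q m ev η) (hb : ev → b = false) :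
    ∃ d, Od d q ∧ Rg d b m η := by
  rcases h with ⟨ε, h1, h2⟩ | ⟨h1, h2⟩
  · rcases Int.units_eq_one_or ε with rfl | rfl
    · refine ⟨1, .inl ⟨rfl, ?_⟩, .inl ⟨rfl, h2.imp_right fun h => ⟨hb h.2.1, h.1, (Int.units_eq_one_or η).resolve_left h.2.2⟩⟩⟩
      rw [Units.val_one] at h1
      omega
    · refine ⟨2, .inr (.inl ⟨rfl, ?_⟩), .inr (.inl ⟨rfl, h2.imp_right fun h =>
        ⟨hb h.2.1, h.1, (Int.units_eq_one_or η).resolve_right h.2.2⟩⟩)⟩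
      rw [Units.val_neg, Units.val_one] at h1
      omega
  · refine ⟨4, .inr (.inr ⟨rfl, ?_⟩), .inr (.inr ⟨rfl, h2.imp_right fun h => ⟨hb h.2.1, h.1, h.2.2⟩⟩)⟩
    have h3 : (q ^ 2 + 1) % 5 = 0 := Nat.mod_eq_zero_of_dvd (by exact_mod_cast h1)
    rw [Nat.add_mod, Nat.pow_mod] at h3
    have h4 : q % 5 < 5 := Nat.mod_lt _ (by decide)
    generalize q % 5 = r at h3 h4
    interval_cases r <;> simp_all

theorem le_of_rg {d m : ℕ} {b : Bool} {η : ℤˣ} (h : Rg d b m η) : m ≤ 10 := by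
  rcases h with h | h | h <;> omega

variable {p : ℕ} [Fact p.Prime] {k : Type} [Field k] [CharP k p] {Y : Type} [Group Y] {N : Type} [Fintype N]
  [DecidableEq N] {ρ : Y →* GL N k} {F : MulAut Y} {G : Subgroup Y} [IsAlgClosed k] {D : Datum p ρ F G}
  {ev : Prop} {e n : ℕ}

/-- **the rank bound** -/
theorem rg5 (P : SP D (n + 1) ev) {η : ℤˣ} (hM : P.P * D.Mx = (p : ℤ) ^ e • spm 1 (lsg n η) * P.P) [Fintype ↥(GF F G)]
    (hp : 5 ≠ p) (hA : AbS 5 ↥(GF F G)) {b : Bool} (hb : ev → b = false) : ∃ d, Od d (p ^ e) ∧ Rg d b (n + 1) η :=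
  Bd5.rg (by exact_mod_cast bd5 P hM hp hA) hb

end Cfsg.Agent.LV.Rk
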