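import Cfsg.Agent.LV.Rk.Rg
import Cfsg.Agent.S0245
import Cfsg.Agent.S0292
import Cfsg.Agent.S0293
import Cfsg.Agent.S0294

/-!
# LV, classical groups: the `l`-parts of the orders (helper22)

`Cv.val`, `valC`, `valB`, `valP`, `valM`.
-/

set_option autoImplicit false
set_option linter.unusedSectionVars false

namespace Cfsg.Agent.LV.Rk

open Cfsg Cfsg.Agent.DL Cfsg.Agent.DL.PP Cfsg.Agent.KZ Cfsg.Agent.KZ.Lie Cfsg.Agent.KZ.Dat Cfsg.Agent.KZ.ClB
  Cfsg.Agent.KZ.ClD Cfsg.Agent.KZ.Dat.Om Cfsg.Agent.KZ.Ch3X Cfsg.Agent.LV.Blk Matrix Equiv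

variable {l : ℕ} (hl : l.Prime) (h2 : l ≠ 2)

include hl h2

theorem not_dvd_of_sq {H : Type} [Group H] [Finite H] (h : ∀ x : H, x ^ 2 = 1) : ¬ l ∣ Nat.card H := fun h3 => by
  have : Fact l.Prime := ⟨hl⟩
  obtain ⟨x, hx⟩ := exists_prime_orderOf_dvd_card' l h3
  exact h2 ((Nat.prime_dvd_prime_iff_eq hl Nat.prime_two).1 (hx ▸ orderOf_dvd_of_pow_eq_one (h x)))

omit hl h2 in
theorem val_mul {c a : ℕ} (hc : ¬ l ∣ c) (ha : a ≠ 0) : (c * a).factorization l = a.factorization l := by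
  rw [Nat.factorization_mul (fun h : c = 0 => hc (h ▸ dvd_zero l)) ha, Finsupp.add_apply, Nat.factorization_eq_zero_of_not_dvd hc,
    zero_add]

theorem Cv.val {Γ S : Type} [Group Γ] [Group S] [Finite Γ] (h : Cv Γ S) :
    (Nat.card Γ).factorization l = (Nat.card S).factorization l := by
  obtain ⟨H, π, h1, h3, h4, h5⟩ := h
  have := Finite.of_surjective π h4
  rw [← H.index_mul_card, val_mul _ Nat.card_pos.ne', ← π.ker.card_mul_index, Subgroup.index_ker,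
    MonoidHom.range_eq_top.2 h4, Subgroup.card_top, val_mul _ Nat.card_pos.ne']
  · exact not_dvd_of_sq hl h2 fun x => Subtype.ext (h5 x x.2)
  · refine not_dvd_of_sq hl h2 (H := Γ ⧸ H) fun x => ?_
    obtain ⟨x, rfl⟩ := QuotientGroup.mk_surjective x
    exact (QuotientGroup.eq_one_iff _).2 (h3 x)

theorem val_of {c a q j X : ℕ} (ha : a ≠ 0) (hc : c ∣ 4) (hq : ¬ l ∣ q) (h : c * a = q ^ j * X) :
    a.factorization l = X.factorization l := by
  have h1 : ¬ l ∣ c := fun e => h2 ((Nat.prime_dvd_prime_iff_eq hl Nat.prime_two).1 (hl.dvd_of_dvd_pow (n := 2) (e.trans hc)))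
  rw [← val_mul h1 ha, h, val_mul (fun e => hq (hl.dvd_of_dvd_pow e))]
  rintro rfl
  exact mul_ne_zero (fun e : c = 0 => h1 (e ▸ dvd_zero l)) ha h

variable {p : ℕ} [Fact p.Prime] {k : Type} [Field k] [CharP k p] [IsAlgClosed k]
  (hk : ∀ a : k, ∃ j, 0 < j ∧ a ^ p ^ j = a) {e : ℕ} (he : 0 < e) {F : Type} [Field F] [Fintype F] (f : F →+* k)
  (hF : Fintype.card F = p ^ e) (hp : l ≠ p)

include hp in
omit h2 in
theorem not_dvd_pow : ¬ l ∣ p ^ e := fun h => hp ((Nat.prime_dvd_prime_iff_eq hl Fact.out).1 (hl.dvd_of_dvd_pow h))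

include f hF hp

theorem valC (m : ℕ) : (Nat.card ↥(GF (FC m k p e) (GC m k))).factorization l =
    (∏ i ∈ Finset.range m, ((p ^ e) ^ (2 * (i + 1)) - 1)).factorization l := by
  rw [← Nat.card_congr (eqvC f hF).toEquiv]
  exact val_of hl h2 Nat.card_pos.ne' (one_dvd 4) (not_dvd_pow hl hp) ((one_mul _).trans (S0245.result hF m))

include hk he

theorem valB {m : ℕ} (h3 : (2 : k) ≠ 0) (ho : Odd (Fintype.card F)) (hm : 3 ≤ m) :
    (Nat.card ↥(GF ((osB m).sy_id.F k p e) ((osB m).G k))).factorization l =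
      (∏ i ∈ Finset.range m, ((p ^ e) ^ (2 * (i + 1)) - 1)).factorization l := by
  have := Asm.finite_GF (datB m h3 hk he)
  rw [(cvB f hF h3 (m := m) (by omega)).val hl h2]
  exact val_of hl h2 Nat.card_pos.ne' (by decide) (not_dvd_pow hl hp) (S0292.result hF (hF ▸ ho) m hm)

theorem valP {n : ℕ} (hn : 2 ≤ n) : (Nat.card ↥(GF ((osD n).sy_id.F k p e) ((osD n).G k))).factorization l =
    (((p ^ e) ^ (n + 2) - 1) * ∏ i ∈ Finset.range (n + 1), ((p ^ e) ^ (2 * (i + 1)) - 1)).factorization l := by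
  have := Asm.finite_GF (datP n hk he)
  rw [(cvP f hF (n := n) (by omega)).val hl h2]
  exact val_of hl h2 Nat.card_pos.ne' (Nat.gcd_dvd_left _ _) (not_dvd_pow hl hp)
    ((S0293.result hF (n + 2) (by omega)).trans (mul_assoc _ _ _))

theorem valM {n : ℕ} (hn : 2 ≤ n) {a b : F} (hab : ∀ z₁ z₂ : F, z₁ ^ 2 + a * z₁ * z₂ + b * z₂ ^ 2 = 0 → z₁ = 0 ∧ z₂ = 0) :
    (Nat.card ↥(GF ((syD n).F k p e) ((osD n).G k))).factorization l =
      (((p ^ e) ^ (n + 2) + 1) * ∏ i ∈ Finset.range (n + 1), ((p ^ e) ^ (2 * (i + 1)) - 1)).factorization l := by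
  have := Asm.finite_GF (datM n hk he)
  rw [(cvM f hF (n := n) (by omega) hab).val hl h2]
  exact val_of hl h2 Nat.card_pos.ne' (Nat.gcd_dvd_left _ _) (not_dvd_pow hl hp)
    ((S0294.result hF (n + 2) (by omega) a b hab).trans (mul_assoc _ _ _))

end Cfsg.Agent.LV.Rk
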